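import Mathlib
import Cfsg.Agent.Lib.Helper8.PG.Defs
import Cfsg.Agent.Lib.Helper40.PSpRS

/-!
# PG (S2474, helper8 project): package [POLY3] (helper24)

`q ≡ 3 (mod 4)`, `n` odd, `2 n` the order of `q` modulo the odd prime `s ≠ p`: there is a monic
irreducible self-dual polynomial of degree `2 n` dividing `X ^ (2 s) + 1`.
-/

set_option autoImplicit false

namespace Cfsg.Agent.Lib.Helper24.PG

open Matrix Polynomial Cfsg.Agent.Lib.Helper8.PG Cfsg.Agent.Lib.Helper40.DualPoly
  Cfsg.Agent.Lib.Helper40.PSLRS Cfsg.Agent.Lib.Helper40.PSpRS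

universe u

theorem three_pow_odd_mod_four (m : ℕ) : 3 ^ (2 * m + 1) % 4 = 3 := by
  induction m with
  | zero => norm_num
  | succ m ih =>
    have : 3 ^ (2 * (m + 1) + 1) = 9 * 3 ^ (2 * m + 1) := by ring
    rw [this, Nat.mul_mod, ih]

theorem nine_pow_mod_four (m : ℕ) : 9 ^ m % 4 = 1 := by
  induction m with
  | zero => norm_num
  | succ m ih =>
    rw [pow_succ, Nat.mul_mod, ih]

/-- Package [POLY3]. -/
theorem pkgPoly3 : PkgPoly3.{u} := by
  intro F _ _ p _ _ n s hs hs2 hsp hord hnodd hq3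
  classical
  have hn0 : 0 < n := hnodd.pos
  have hdz : NeZero (2 * n) := ⟨by omega⟩
  let K := FiniteField.Extension F p (2 * n)
  have hfin : Module.finrank F K = 2 * n := FiniteField.finrank_extension F p (2 * n)
  have : Fintype K := Fintype.ofFinite K
  obtain ⟨ζ, hζ⟩ := IsCyclic.exists_generator (α := Kˣ)
  have hcardK : Fintype.card K = Fintype.card F ^ (2 * n) := by
    rw [← Nat.card_eq_fintype_card, FiniteField.natCard_extension, Nat.card_eq_fintype_card]
  have hordζ : orderOf ζ = Fintype.card F ^ (2 * n) - 1 := by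
    rw [orderOf_eq_card_of_forall_mem_zpowers hζ, Nat.card_eq_fintype_card, Fintype.card_units,
      hcardK]
  have hq1 : 1 ≤ Fintype.card F := Fintype.card_pos
  have hs1 : s ∣ Fintype.card F ^ (2 * n) - 1 := by
    have h1 : ((Fintype.card F : ℕ) : ZMod s) ^ (2 * n) = 1 := by
      rw [hord]; exact pow_orderOf_eq_one _
    have h2 : ((Fintype.card F ^ (2 * n) - 1 : ℕ) : ZMod s) = 0 := by
      rw [Nat.cast_sub (Nat.one_le_pow _ _ hq1), Nat.cast_pow, Nat.cast_one, h1, sub_self]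
    exact (ZMod.natCast_eq_zero_iff _ _).mp h2
  have hqmod : Fintype.card F ^ 2 % 4 = 1 := by
    rw [Nat.pow_mod, hq3]
  have h4 : 4 ∣ Fintype.card F ^ (2 * n) - 1 := by
    have h1 : Fintype.card F ^ (2 * n) % 4 = 1 := by
      rw [pow_mul, Nat.pow_mod, hqmod]
      simp
    have h2 : 1 ≤ Fintype.card F ^ (2 * n) := Nat.one_le_pow _ _ hq1
    omega
  have hcop : Nat.Coprime 4 s := by
    have h2 : Nat.Coprime 2 s := (Nat.coprime_primes Nat.prime_two hs).mpr (Ne.symm hs2)
    have : (4 : ℕ) = 2 ^ 2 := by norm_num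
    rw [this]
    exact Nat.Coprime.pow_left 2 h2
  have h4s : 4 * s ∣ Fintype.card F ^ (2 * n) - 1 := hcop.mul_dvd_of_dvd_of_dvd h4 hs1
  obtain ⟨αu, hαu⟩ : ∃ α : Kˣ, orderOf α = 4 * s := by
    refine ⟨ζ ^ ((Fintype.card F ^ (2 * n) - 1) / (4 * s)), ?_⟩
    rw [← hordζ]
    exact orderOf_pow_orderOf_div (orderOf_pos ζ).ne' (by rw [hordζ]; exact h4s)
  obtain ⟨α, hα⟩ : ∃ α : K, α = (αu : K) := ⟨_, rfl⟩
  have hαpow : ∀ j : ℕ, α ^ j = 1 ↔ 4 * s ∣ j := by
    intro j
    rw [← hαu, orderOf_dvd_iff_pow_eq_one, hα, ← Units.val_pow_eq_pow_val, Units.val_eq_one]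
  have hint : IsIntegral F α := Algebra.IsIntegral.isIntegral α
  obtain ⟨π, hπ⟩ : ∃ π : F[X], π = minpoly F α := ⟨_, rfl⟩
  have hirr : Irreducible π := hπ ▸ minpoly.irreducible hint
  have hmon : π.Monic := hπ ▸ minpoly.monic hint
  have hspos : 0 < s := hs.pos
  -- `α ^ (2 s) = -1`
  have hα2s : α ^ (2 * s) = -1 := by
    have h1 : (α ^ (2 * s)) * (α ^ (2 * s)) = 1 := by
      rw [← pow_add]
      have : 2 * s + 2 * s = 4 * s := by ring
      rw [this]
      exact (hαpow _).mpr dvd_rfl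
    have h2 : α ^ (2 * s) ≠ 1 := by
      intro h
      have h3 := (hαpow _).mp h
      have h5 := Nat.le_of_dvd (by omega) h3
      omega
    rcases mul_self_eq_one_iff.mp h1 with h | h
    · exact absurd h h2
    · exact h
  have hdvd2 : π ∣ X ^ (2 * s) + 1 := by
    rw [hπ]
    apply minpoly.dvd
    simp [hα2s]
  have hdvd4 : π ∣ X ^ (s * 4) - 1 := by
    rw [hπ]
    apply minpoly.dvd
    have h1 : α ^ (s * 4) = 1 := (hαpow (s * 4)).mpr (by rw [mul_comm])
    simp [h1]
  have hn4 : ¬ π ∣ X ^ 4 - 1 := by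
    rintro ⟨c, hc⟩
    have h1 : aeval α (X ^ 4 - 1 : F[X]) = 0 := by rw [hc, map_mul, hπ, minpoly.aeval, zero_mul]
    have h2 : α ^ 4 = 1 := by simpa [sub_eq_zero] using h1
    have h3 := (hαpow 4).mp h2
    have h5 := Nat.le_of_dvd (by norm_num) h3
    have hs3 : 2 ≤ s := hs.two_le
    omega
  have hdeg : π.natDegree = 2 * n := by
    have hle : π.natDegree ≤ 2 * n := by
      have h1 := minpoly.natDegree_le (A := F) α
      rw [hfin] at h1
      rw [hπ]
      exact h1
    have hld : 2 * n ∣ π.natDegree := ord_dvd_of_dvd (Fintype.card F) s (2 * n) hq1 hord _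
      (dvd_card_pow_sub_one π hirr s 4 hs hdvd4 hn4)
    exact Nat.le_antisymm hle (Nat.le_of_dvd hirr.natDegree_pos hld)
  have h0 : π.coeff 0 ≠ 0 := by
    intro h
    obtain ⟨c, hc⟩ := hdvd2
    have h1 := congrArg (fun f : F[X] => f.coeff 0) hc
    simp only [mul_coeff_zero, h, zero_mul] at h1
    have h2 : (X ^ (2 * s) + 1 : F[X]).coeff 0 = 1 := by
      rw [coeff_add, coeff_X_pow, coeff_one_zero, if_neg (by omega), zero_add]
    rw [h2] at h1
    exact one_ne_zero h1
  have hdual : dual (RingHom.id F) π = π := by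
    apply dual_eq_self_of_pow p π hmon hirr h0 n
    have : Fact (Irreducible π) := ⟨hirr⟩
    have hroot4s : (AdjoinRoot.root π) ^ (4 * s) = 1 := by
      have h := AdjoinRoot.mk_eq_zero.2 hdvd4
      simpa [sub_eq_zero, mul_comm] using h
    have hsdiv : s ∣ 1 + Fintype.card F ^ n :=
      dvd_one_add_pow_half s hs (Fintype.card F) n hn0 hord.symm
    have h4div : 4 ∣ 1 + Fintype.card F ^ n := by
      obtain ⟨m, hm⟩ := hnodd
      have h1 : Fintype.card F ^ n % 4 = 3 := by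
        rw [Nat.pow_mod, hq3, hm]
        exact three_pow_odd_mod_four m
      omega
    obtain ⟨c, hc⟩ := hcop.mul_dvd_of_dvd_of_dvd h4div hsdiv
    rw [hc, pow_mul, hroot4s, one_pow]
  exact ⟨π, hmon, hirr, hdeg, hdual, hdvd2⟩

end Cfsg.Agent.Lib.Helper24.PG
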