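import Mathlib
import Cfsg.Agent.Lib.Helper8.PG.Defs
import Cfsg.Agent.Lib.Helper40.PSpRS

/-!
# PG (S2474, helper8 project): package [SPN3] (helper24)

`q ≡ 3 (mod 4)`, `n ≥ 2` odd, `2 n` the order of `q` modulo `s`: `Sp_{2n}(q)` has an element
`S` with `S ^ (2 s) = -1`, `S ^ 2 ≠ ± 1`, `S ^ s ≠ ± 1`.
-/

set_option autoImplicit false

namespace Cfsg.Agent.Lib.Helper24.PG

open Matrix Polynomial Cfsg.Agent.Lib.Helper8.PG Cfsg.Agent.Lib.Helper40.DualPoly
  Cfsg.Agent.Lib.Helper40.PSLRS Cfsg.Agent.Lib.Helper40.PSpRS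

universe u

/-- Package [SPN3]. -/
theorem pkgSpN3 : PkgSpN3.{u} := by
  intro hP F _ _ p _ _ n s hn hs hs2 hsp hord hnodd hq3
  classical
  obtain ⟨f, hmon, hirr, hdeg, hdual, hdvd⟩ := hP p n s hs hs2 hsp hord hnodd hq3
  have h2 : (2 : F) ≠ 0 := by
    apply Ring.two_ne_zero
    intro h
    have hev := (FiniteField.even_card_iff_char_two).mp h
    omega
  have hspos := hs.pos
  have hcoeff0 : f.coeff 0 ≠ 0 := by
    intro h
    obtain ⟨c, hc⟩ := hdvd
    have h1 := congrArg (fun g : F[X] => g.coeff 0) hc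
    simp only [mul_coeff_zero, h, zero_mul] at h1
    have h3 : (X ^ (2 * s) + 1 : F[X]).coeff 0 = 1 := by
      rw [coeff_add, coeff_X_pow, coeff_one_zero, if_neg (by omega), zero_add]
    rw [h3] at h1
    exact one_ne_zero h1
  have he1 : f.eval 1 ≠ 0 := by
    intro h
    obtain ⟨c, hc⟩ := hdvd
    have h1 := congrArg (eval 1) hc
    rw [eval_mul, h, zero_mul] at h1
    simp only [eval_add, eval_pow, eval_X, one_pow, eval_one] at h1
    exact h2 (by rw [← one_add_one_eq_two]; exact h1)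
  have hem1 : f.eval (-1) ≠ 0 := by
    intro h
    obtain ⟨c, hc⟩ := hdvd
    have h1 := congrArg (eval (-1)) hc
    rw [eval_mul, h, zero_mul] at h1
    simp only [eval_add, eval_pow, eval_X, eval_one] at h1
    rw [pow_mul, neg_one_sq, one_pow] at h1
    exact h2 (by rw [← one_add_one_eq_two]; exact h1)
  obtain ⟨S, e, hchar, N, hN0, hNp, hSN⟩ :=
    exists_sp_of_poly p n f hmon hcoeff0 hdual he1 hem1 (by omega)
  have he0 : e = 0 := by
    have h1 := congrArg natDegree hchar
    rw [Matrix.charpoly_natDegree_eq_dim,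
      natDegree_mul (pow_ne_zero _ (X_sub_C_ne_zero 1)) hmon.ne_zero, natDegree_pow,
      natDegree_X_sub_C, hdeg] at h1
    simp only [Fintype.card_sum, Fintype.card_fin] at h1
    omega
  rw [he0, pow_zero, one_mul] at hchar
  have hCH : aeval S.1 f = 0 := by
    rw [← hchar]
    exact Matrix.aeval_self_charpoly S.1
  have hS2s : S.1 ^ (2 * s) = -1 := by
    obtain ⟨c, hc⟩ := hdvd
    have h1 : aeval S.1 (X ^ (2 * s) + 1 : F[X]) = 0 := by rw [hc, map_mul, hCH, zero_mul]
    simp only [map_add, map_pow, aeval_X, map_one] at h1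
    exact eq_neg_of_add_eq_zero_left h1
  have hne : (1 : Matrix (Fin n ⊕ Fin n) (Fin n ⊕ Fin n) F) ≠ -1 := by
    intro h
    have h1 := congrFun (congrFun h (Sum.inl ⟨0, by omega⟩)) (Sum.inl ⟨0, by omega⟩)
    simp only [Matrix.one_apply_eq, Matrix.neg_apply] at h1
    apply h2
    have h3 : (1 : F) + 1 = 0 := by
      nth_rewrite 2 [h1]
      exact add_neg_cancel 1
    rw [← one_add_one_eq_two]
    exact h3
  refine ⟨S, Or.inr hS2s, ?_, ?_⟩
  · rintro (h | h)
    · have h1 : S.1 ^ (2 * s) = 1 := by rw [pow_mul, h, one_pow]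
      rw [hS2s] at h1
      exact hne h1.symm
    · have h1 : aeval S.1 (X ^ 2 + 1 : F[X]) = 0 := by
        simp only [map_add, map_pow, aeval_X, map_one, h]
        exact neg_add_cancel 1
      have h3 := irr_dvd_of_aeval S.1 _ h1 f hirr (by rw [hchar])
      have h5 : (X ^ 2 + 1 : F[X]).natDegree = 2 := by
        rw [← C_1, natDegree_X_pow_add_C]
      have h6 : (X ^ 2 + 1 : F[X]) ≠ 0 := by
        intro h0
        rw [h0] at h5
        simp at h5
      have h4 := natDegree_le_of_dvd h3 h6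
      omega
  · rintro (h | h)
    · have h1 : S.1 ^ (2 * s) = 1 := by rw [mul_comm, pow_mul, h, one_pow]
      rw [hS2s] at h1
      exact hne h1.symm
    · have h1 : S.1 ^ (2 * s) = 1 := by
        rw [mul_comm, pow_mul, h]
        simp
      rw [hS2s] at h1
      exact hne h1.symm

end Cfsg.Agent.Lib.Helper24.PG
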